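import Groth.Agent.QCGen.RestrictLoc
import Groth.Agent.SubRes.ExtendCoh
import Mathlib.CategoryTheory.Abelian.Basic

/-!
Coherent modules on an open of a Noetherian scheme as a localization.
-/

set_option autoImplicit false
set_option backward.isDefEq.respectTransparency false
set_option backward.isDefEq.respectTransparency.types false
set_option linter.style.haveILetI false

universe v₁ v₂ u₁ u₂ u

open CategoryTheory CategoryTheory.Limits

namespace Groth.Agent.CohLocU

section Gen

variable {C : Type u₁} [Category.{v₁} C] {D : Type u₂} [Category.{v₂} D]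

/-- A criterion for localization functors, with right calculus of fractions. -/
theorem isLocalization_of_right (L : C ⥤ D) (W : MorphismProperty C) [W.HasRightCalculusOfFractions]
    (hinv : W.IsInvertedBy L) [L.EssSurj]
    (hfull : ∀ (X Y : C) (φ : L.obj X ⟶ L.obj Y),
      ∃ (X' : C) (t : X' ⟶ X) (g : X' ⟶ Y), W t ∧ L.map t ≫ φ = L.map g)
    (hfaith : ∀ (X Y : C) (f g : X ⟶ Y), L.map f = L.map g →
      ∃ (X' : C) (t : X' ⟶ X), W t ∧ t ≫ f = t ≫ g) : L.IsLocalization W := by
  let F := Localization.lift L hinv W.Q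
  let α : W.Q ⋙ F ≅ L := Localization.fac L hinv W.Q
  haveI : W.Q.EssSurj := Localization.essSurj W.Q W
  have hα : ∀ {X Y : C} (f : X ⟶ Y), F.map (W.Q.map f) = α.hom.app X ≫ L.map f ≫ α.inv.app Y := by
    intro X Y f
    exact (NatIso.naturality_2 α f).symm
  haveI : F.EssSurj := ⟨fun Y => ⟨W.Q.obj (L.objPreimage Y),
    ⟨α.app _ ≪≫ L.objObjPreimageIso Y⟩⟩⟩
  haveI : F.Full := by
    refine ⟨fun {A B} φ => ?_⟩
    let eA := W.Q.objObjPreimageIso A
    let eB := W.Q.objObjPreimageIso B
    obtain ⟨X', t, g, ht, h⟩ := hfull _ _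
      (α.inv.app (W.Q.objPreimage A) ≫ F.map eA.hom ≫ φ ≫ F.map eB.inv ≫ α.hom.app (W.Q.objPreimage B))
    let it := Localization.isoOfHom W.Q W t ht
    refine ⟨eA.inv ≫ it.inv ≫ W.Q.map g ≫ eB.hom, ?_⟩
    have h1 : F.map (W.Q.map g) = F.map (W.Q.map t) ≫ F.map eA.hom ≫ φ ≫ F.map eB.inv := by
      rw [hα g, hα t, ← h]
      simp only [Category.assoc, Iso.hom_inv_id_app]
      congr 1
      erw [Category.comp_id]
    rw [Functor.map_comp, Functor.map_comp, Functor.map_comp, h1]
    simp only [Category.assoc, ← Functor.map_comp, eB.inv_hom_id, CategoryTheory.Functor.map_id,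
      Category.comp_id]
    rw [← Functor.map_comp_assoc, ← Functor.map_comp_assoc]
    have hit : (eA.inv ≫ it.inv ≫ W.Q.map t) ≫ eA.hom = 𝟙 A := by simp [it]
    rw [← Functor.map_comp_assoc]
    simp only [Category.assoc] at hit ⊢
    rw [hit]
    simp
  haveI : F.Faithful := by
    refine ⟨fun {A B} a b hab => ?_⟩
    let eA := W.Q.objObjPreimageIso A
    let eB := W.Q.objObjPreimageIso B
    rw [← cancel_epi eA.hom, ← cancel_mono eB.inv]
    let a' := (eA.hom ≫ a) ≫ eB.inv
    let b' := (eA.hom ≫ b) ≫ eB.inv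
    have hab' : F.map a' = F.map b' := by simp [a', b', hab]
    change a' = b'
    obtain ⟨φ, hφ⟩ := Localization.exists_rightFraction W.Q W a'
    let X₁ := φ.X'
    obtain ⟨ψ, hψ⟩ := Localization.exists_rightFraction W.Q W (W.Q.map φ.s ≫ b')
    have ha : W.Q.map (ψ.s ≫ φ.s) ≫ a' = W.Q.map (ψ.s ≫ φ.f) := by
      rw [hφ, Functor.map_comp, Functor.map_comp, Category.assoc,
        MorphismProperty.RightFraction.map_s_comp_map]
    have hb : W.Q.map (ψ.s ≫ φ.s) ≫ b' = W.Q.map ψ.f := by
      rw [Functor.map_comp, Category.assoc, hψ, MorphismProperty.RightFraction.map_s_comp_map]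
    have hW : W (ψ.s ≫ φ.s) := W.comp_mem _ _ ψ.hs φ.hs
    have hL : L.map (ψ.s ≫ φ.f) = L.map ψ.f := by
      have := congrArg (fun z => F.map (W.Q.map (ψ.s ≫ φ.s)) ≫ z) hab'
      rw [← Functor.map_comp, ← Functor.map_comp, ha, hb, hα, hα] at this
      exact (cancel_mono (α.inv.app _)).1 ((cancel_epi (α.hom.app _)).1 this)
    obtain ⟨Z, v, hv, hve⟩ := hfaith _ _ _ _ hL
    haveI : IsIso (W.Q.map v) := Localization.inverts W.Q W v hv
    haveI : IsIso (W.Q.map (ψ.s ≫ φ.s)) := Localization.inverts W.Q W _ hW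
    rw [← cancel_epi (W.Q.map (ψ.s ≫ φ.s)), ha, hb, ← cancel_epi (W.Q.map v), ← Functor.map_comp,
      hve, Functor.map_comp]
  haveI : F.IsEquivalence := { }
  exact Functor.IsLocalization.of_equivalence_target W.Q W L F.asEquivalence α

end Gen

open AlgebraicGeometry

variable {X : Scheme.{u}} [AlgebraicGeometry.IsNoetherian X] (U : X.Opens)

/-- coherent modules -/
abbrev cohP (X : Scheme.{u}) : ObjectProperty X.Modules := fun M => Coh.IsCoh M

lemma isCoh_pullback {A B Y : X.Modules} (f : A ⟶ Y) (s : B ⟶ Y) (hA : Coh.IsCoh A)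
    (hB : Coh.IsCoh B) (hY : Coh.IsCoh Y) : Coh.IsCoh (pullback f s) := by
  have hAB := SubRes.isCoh_biprod hA hB
  let e : pullback f s ≅ kernel (biprod.desc f (-s)) :=
    IsLimit.conePointUniqueUpToIso
      (Abelian.PullbackToBiproductIsKernel.isLimitPullbackToBiproduct f s) (limit.isLimit _)
  refine K0Coh.isCoh_of_iso e.symm ?_
  exact QC.isCoh_of_mono (kernel.ι _) hAB (QC.isQCoh_kernel hAB.1 hY.1 _)

lemma isCoh_kernel {A B : X.Modules} (f : A ⟶ B) (hA : Coh.IsCoh A) (hB : Coh.IsCoh B) :
    Coh.IsCoh (kernel f) :=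
  QC.isCoh_of_mono (kernel.ι f) hA (QC.isQCoh_kernel hA.1 hB.1 f)

/-- morphisms becoming invertible on the open -/
abbrev cls : MorphismProperty (cohP X).FullSubcategory :=
  fun _ _ f => IsIso ((Scheme.Modules.restrictFunctor U.ι).map f.hom)

instance : (cls U).HasRightCalculusOfFractions where
  id_mem M := by
    change IsIso ((Scheme.Modules.restrictFunctor U.ι).map (𝟙 M.obj))
    infer_instance
  comp_mem f g hf hg := by
    change IsIso ((Scheme.Modules.restrictFunctor U.ι).map (f.hom ≫ g.hom))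
    haveI : IsIso ((Scheme.Modules.restrictFunctor U.ι).map f.hom) := hf
    haveI : IsIso ((Scheme.Modules.restrictFunctor U.ι).map g.hom) := hg
    rw [Functor.map_comp]
    infer_instance
  exists_rightFraction A B φ := by
    let R := Scheme.Modules.restrictFunctor U.ι
    let P : (cohP X).FullSubcategory :=
      ⟨pullback φ.f.hom φ.s.hom, isCoh_pullback _ _ A.property B.property φ.Y'.property⟩
    haveI : IsIso (R.map φ.s.hom) := φ.hs
    have hs : cls U (ObjectProperty.homMk (pullback.fst φ.f.hom φ.s.hom) : P ⟶ A) :=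
      ((IsPullback.of_hasPullback φ.f.hom φ.s.hom).map R).isIso_fst_of_isIso
    exact ⟨⟨(ObjectProperty.homMk (pullback.fst φ.f.hom φ.s.hom) : P ⟶ A), hs,
      ObjectProperty.homMk (pullback.snd φ.f.hom φ.s.hom)⟩,
      ObjectProperty.hom_ext _ (pullback.condition (f := φ.f.hom) (g := φ.s.hom))⟩
  ext A B B' f₁ f₂ s hs h := by
    let R := Scheme.Modules.restrictFunctor U.ι
    haveI : IsIso (R.map s.hom) := hs
    let K : (cohP X).FullSubcategory :=
      ⟨kernel (f₁.hom - f₂.hom), isCoh_kernel _ A.property B.property⟩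
    have h0 : R.map (f₁.hom - f₂.hom) = 0 := by
      rw [← cancel_mono (R.map s.hom), zero_comp, ← Functor.map_comp, Preadditive.sub_comp,
        ← ObjectProperty.FullSubcategory.comp_hom, ← ObjectProperty.FullSubcategory.comp_hom, h, sub_self,
        Functor.map_zero]
    refine ⟨K, ObjectProperty.homMk (kernel.ι (f₁.hom - f₂.hom)), ?_, ObjectProperty.hom_ext _ ?_⟩
    · change IsIso (R.map (kernel.ι _))
      rw [show R.map (kernel.ι (f₁.hom - f₂.hom)) =
        (PreservesKernel.iso R (f₁.hom - f₂.hom)).hom ≫ kernel.ι (R.map (f₁.hom - f₂.hom)) by simp]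
      haveI : IsIso (kernel.ι (R.map (f₁.hom - f₂.hom))) :=
        ⟨⟨kernel.lift _ (𝟙 _) (by rw [h0, comp_zero]), by
          rw [← cancel_mono (kernel.ι (R.map (f₁.hom - f₂.hom))), Category.assoc, kernel.lift_ι,
            Category.comp_id, Category.id_comp], kernel.lift_ι _ _ _⟩⟩
      infer_instance
    · have := kernel.condition (f₁.hom - f₂.hom)
      rw [Preadditive.comp_sub, sub_eq_zero] at this
      exact this

variable (hres : ∀ M : X.Modules, Coh.IsCoh M → Coh.IsCoh ((Scheme.Modules.restrictFunctor U.ι).obj M))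

/-- restriction of coherent modules -/
noncomputable abbrev resCoh : (cohP X).FullSubcategory ⥤ (cohP (U : Scheme.{u})).FullSubcategory :=
  ObjectProperty.lift _ ((cohP X).ι ⋙ Scheme.Modules.restrictFunctor U.ι) (fun M => hres M.obj M.property)

theorem essSurj_resCoh : (resCoh U hres).EssSurj := by
  haveI : AlgebraicGeometry.IsNoetherian (U : Scheme.{u}) := LocImmFT.isNoetherian_opens U
  haveI : QuasiCompact U.ι := inferInstance
  refine ⟨fun N => ?_⟩
  have hq : Coh.IsQCoh ((Scheme.Modules.pushforward U.ι).obj N.obj) :=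
    @QC.isQCoh_pushforward _ _ _ N.property.1 U.ι _ _
  haveI : ((Scheme.Modules.pushforward U.ι).obj N.obj).IsQuasicoherent := hq
  haveI : N.obj.IsQuasicoherent := N.property.1
  let c := (Scheme.Modules.restrictAdjunction U.ι).counit.app N.obj
  haveI : IsIso c := inferInstance
  obtain ⟨G', i', e, -, hGq, hGft, -⟩ := QC.exists_ft_extension
    (F := (Scheme.Modules.pushforward U.ι).obj N.obj)
    (fun x => ⟨⊤, trivial, inferInstance⟩) U N.obj (inv c) N.property.2
  exact ⟨⟨G', hGq, hGft⟩, ⟨(cohP (U : Scheme.{u})).isoMk e⟩⟩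

theorem isLocalization_resCoh : (resCoh U hres).IsLocalization (cls U) := by
  let R := Scheme.Modules.restrictFunctor U.ι
  haveI := essSurj_resCoh U hres
  refine isLocalization_of_right _ _ ?_ ?_ ?_
  · intro A B f hf
    haveI : IsIso ((cohP (U : Scheme.{u})).ι.map ((resCoh U hres).map f)) := hf
    exact isIso_of_reflects_iso _ (cohP (U : Scheme.{u})).ι
  · intro A B φ
    have hAB := SubRes.isCoh_biprod A.property B.property
    haveI : (A.obj ⊞ B.obj).IsQuasicoherent := hAB.1
    have hA' := hres A.obj A.property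
    haveI : (R.obj A.obj).IsQuasicoherent := hA'.1
    let φ' : R.obj A.obj ⟶ R.obj B.obj := φ.hom
    let j : R.obj A.obj ⟶ R.obj (A.obj ⊞ B.obj) :=
      R.map biprod.inl + φ' ≫ R.map biprod.inr
    have hj₁ : j ≫ R.map biprod.fst = 𝟙 _ := by
      simp only [j, Preadditive.add_comp, Category.assoc, ← Functor.map_comp, biprod.inl_fst,
        biprod.inr_fst, Functor.map_zero, comp_zero, add_zero, CategoryTheory.Functor.map_id]
    have hj₂ : j ≫ R.map biprod.snd = φ' := by
      simp only [j, Preadditive.add_comp, Category.assoc, ← Functor.map_comp, biprod.inl_snd,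
        biprod.inr_snd, Functor.map_zero, zero_add, CategoryTheory.Functor.map_id]
      exact Category.comp_id _
    haveI : Mono j := mono_of_mono_fac hj₁
    obtain ⟨G', i', e, -, hGq, hGft, he⟩ := QC.exists_ft_extension (F := A.obj ⊞ B.obj)
      (fun x => ⟨⊤, trivial, inferInstance⟩) U (R.obj A.obj) j hA'.2
    let G : (cohP X).FullSubcategory := ⟨G', hGq, hGft⟩
    have ht : R.map (i' ≫ biprod.fst) = e.hom := by
      rw [Functor.map_comp, ← he, Category.assoc, hj₁]
      exact Category.comp_id _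
    refine ⟨G, ObjectProperty.homMk (i' ≫ biprod.fst), ObjectProperty.homMk (i' ≫ biprod.snd), ?_,
      ObjectProperty.hom_ext _ ?_⟩
    · change IsIso (R.map (i' ≫ biprod.fst))
      rw [ht]
      exact inferInstanceAs (IsIso e.hom)
    · change R.map (i' ≫ biprod.fst) ≫ φ' = R.map (i' ≫ biprod.snd)
      rw [ht, Functor.map_comp, ← he, Category.assoc, hj₂]
  · intro A B f g h
    let K : (cohP X).FullSubcategory :=
      ⟨kernel (f.hom - g.hom), isCoh_kernel _ A.property B.property⟩
    have h0 : R.map (f.hom - g.hom) = 0 := by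
      rw [Functor.map_sub, sub_eq_zero]
      exact congrArg (fun z : (resCoh U hres).obj A ⟶ (resCoh U hres).obj B => z.hom) h
    refine ⟨K, ObjectProperty.homMk (kernel.ι (f.hom - g.hom)), ?_, ObjectProperty.hom_ext _ ?_⟩
    · change IsIso (R.map (kernel.ι _))
      rw [show R.map (kernel.ι (f.hom - g.hom)) =
        (PreservesKernel.iso R (f.hom - g.hom)).hom ≫ kernel.ι (R.map (f.hom - g.hom)) by simp]
      haveI : IsIso (kernel.ι (R.map (f.hom - g.hom))) :=
        ⟨⟨kernel.lift _ (𝟙 _) (by rw [h0, comp_zero]), by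
          rw [← cancel_mono (kernel.ι (R.map (f.hom - g.hom))), Category.assoc, kernel.lift_ι,
            Category.comp_id, Category.id_comp], kernel.lift_ι _ _ _⟩⟩
      infer_instance
    · have := kernel.condition (f.hom - g.hom)
      rw [Preadditive.comp_sub, sub_eq_zero] at this
      exact this

theorem isLocalization_support :
    (resCoh U hres).IsLocalization
      (fun (A B : (cohP X).FullSubcategory) (f : A ⟶ B) =>
        CohB1.support (kernel f.hom) ⊆ (↑U : Set X)ᶜ ∧
          CohB1.support (cokernel f.hom) ⊆ (↑U : Set X)ᶜ) := by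
  have : cls U = (fun (A B : (cohP X).FullSubcategory) (f : A ⟶ B) =>
        CohB1.support (kernel f.hom) ⊆ (↑U : Set X)ᶜ ∧
          CohB1.support (cokernel f.hom) ⊆ (↑U : Set X)ᶜ) := by
    ext A B f
    exact QCGen.isIso_restrict_iff_support f.hom U
  exact this ▸ isLocalization_resCoh U hres

end Groth.Agent.CohLocU
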